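import Mathlib
import Cfsg.Prelude.Def_CharExt
import Cfsg.Agent.Lib.Chars.Ops
import Cfsg.Agent.Lib.Chars.Induced
import Cfsg.Agent.Lib.Chars.Real
import Cfsg.Agent.Lib.Clifford.CharExtension
import Cfsg.Agent.Lib.Clifford.Restriction
import Cfsg.Agent.Lib.Clifford.Correspondence
import Cfsg.Agent.Lib.Blocks.NilKernel
import Cfsg.Agent.Lib.BrauerMap.RepKernel

/-!
# Real linear extensions from a normal subgroup
-/

set_option autoImplicit false

namespace Cfsg.Agent.Lib.RealExtension

open Cfsg Cfsg.Agent.Lib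
open scoped ComplexConjugate

universe u

variable {G : Type u} [Group G] [Finite G]

/-- The determinant of the conjugate character is the inverse determinant. -/
theorem detChar_star_mul {χ : G → ℂ} (hχ : IsIrrCharacter G χ) (g : G) :
    detChar (fun x => conj (χ x)) g * detChar χ g = 1 := by
  have hst := Chars.isIrrCharacter_star hχ
  obtain ⟨k, ρ, hρ, rfl⟩ := hχ
  obtain ⟨k', σ, hσ, hσc⟩ := hst
  have hd : σ.character = ρ.dual.character := by
    rw [hσc]; funext x; rw [Representation.char_dual, Chars.char_inv]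
  obtain ⟨e⟩ := Clifford.equiv_of_char_eq σ ρ.dual hd
  rw [← hσc, Clifford.detChar_character σ ⟨k', σ, rfl⟩, Clifford.detChar_character ρ ⟨k, ρ, rfl⟩]
  show LinearMap.det (σ g) * LinearMap.det (ρ g) = 1
  rw [Clifford.det_equiv e g]
  have h1 : LinearMap.det (ρ.dual g) = LinearMap.det (ρ g⁻¹) := LinearMap.det_dualMap _
  rw [h1, ← map_mul, ← map_mul, inv_mul_cancel, map_one, map_one]

/-- The determinant of a real character of a group with odd abelianization is trivial. -/
theorem detChar_eq_one_of_real (hab : Odd (Nat.card (Abelianization G))) {χ : G → ℂ}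
    (hχ : IsIrrCharacter G χ) (hreal : ∀ g, conj (χ g) = χ g) (g : G) : detChar χ g = 1 := by
  obtain ⟨f, hf⟩ := Clifford.exists_detHom hχ
  have h2 : f g * f g = 1 := by
    have := detChar_star_mul hχ g
    rw [show (fun x => conj (χ x)) = χ from funext hreal, hf] at this
    exact Units.ext (by simpa using this)
  have h3 : f g ^ Nat.card (Abelianization G) = 1 := by
    have := congrArg (Abelianization.lift f)
      (pow_card_eq_one' (x := Abelianization.of g))
    rwa [map_pow, Abelianization.lift_apply_of, map_one] at this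
  obtain ⟨k, hk⟩ := hab
  rw [hk, pow_succ, pow_mul, sq, h2, one_pow, one_mul] at h3
  simp [hf, h3]

theorem exists_nat_charDegree (χ : IrrCharacter G) :
    ∃ d : ℕ, 0 < d ∧ (χ : G → ℂ) 1 = (d : ℂ) ∧ charDegree (χ : G → ℂ) = d := by
  obtain ⟨d, hd, h⟩ := Chars.isIrrCharacter_exists_degree_pos χ.2
  exact ⟨d, hd, h, BrauerMap.charDegree_of_eq_natCast h⟩

/-- A character of odd degree whose multiplicities are constant on the orbits of a `2`-group
action contains, with odd multiplicity and odd degree, a fixed one. -/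
theorem exists_fixed_odd {A X : Type*} [Group A] [MulAction A X] [Finite X] (hA : IsPGroup 2 A)
    (w : X → ℕ) (hinv : ∀ (a : A) (x : X), w (a • x) = w x)
    (hodd : Odd (∑ᶠ x, w x)) : ∃ x : X, (∀ a : A, a • x = x) ∧ Odd (w x) := by
  classical
  cases nonempty_fintype X
  haveI : Fact (Nat.Prime 2) := ⟨Nat.prime_two⟩
  by_contra hno
  push Not at hno
  have h := Blocks.sum_eq_sum_fixedPoints (p := 2) (k := ZMod 2) (ZMod.natCast_self 2) hA
    (fun x => (w x : ZMod 2)) fun a x => by rw [hinv]
  rw [Finset.sum_eq_zero (s := Finset.univ.filter _) fun x hx => ?_] at h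
  · rw [finsum_eq_sum_of_fintype] at hodd
    rw [← Nat.cast_sum, ZMod.natCast_eq_zero_iff] at h
    exact hodd.not_two_dvd_nat h
  · rw [ZMod.natCast_eq_zero_iff]
    exact even_iff_two_dvd.mp (Nat.not_odd_iff_even.mp (hno x (Finset.mem_filter.mp hx).2))

/-- A real invariant linear character of `P ⊓ N` extends to a real linear character of `P`. -/
theorem exists_real_extension (N : Subgroup G) [N.Normal] {P : Subgroup G} (hP : IsPGroup 2 P)
    (hidx : Odd ((P ⊓ N).relIndex N)) (hgen : N ⊔ P = ⊤)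
    (hab : Odd (Nat.card (Abelianization N))) (ν : ↥(P ⊓ N) →* ℂˣ)
    (hν2 : ∀ q, ν q * ν q = 1)
    (hνinv : ∀ x ∈ P, ∀ q q' : ↥(P ⊓ N), (q' : G) = x * q * x⁻¹ → ν q' = ν q) :
    ∃ μ : P →* ℂˣ, (∀ x, μ x * μ x = 1) ∧
      ∀ q : ↥(P ⊓ N), μ ⟨q, (inf_le_left : P ⊓ N ≤ P) q.2⟩ = ν q := by
  classical
  haveI : Fact (Nat.Prime 2) := ⟨Nat.prime_two⟩
  cases nonempty_fintype G
  letI : Fintype N := Fintype.ofFinite _
  letI : Fintype P := Fintype.ofFinite _
  let Q : Subgroup G := P ⊓ N
  letI : Fintype Q := Fintype.ofFinite _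
  let ν' : Q → ℂ := fun q => (ν q : ℂ)
  have hν'irr : IsIrrCharacter Q ν' := Chars.isIrrCharacter_of_hom ν
  have hν'conj : ∀ q, conj (ν' q) = ν' q := fun q => by
    show conj ((ν q : ℂˣ) : ℂ) = ν q
    rw [← Complex.inv_eq_conj (Chars.norm_hom_apply ν q), inv_eq_of_mul_eq_one_left]
    rw [← Units.val_mul, hν2, Units.val_one]
  have hQP : Q ≤ P := inf_le_left
  have hQN : Q ≤ N := inf_le_right
  let iN : Q →* N := Subgroup.inclusion hQN
  let iP : Q →* P := Subgroup.inclusion hQP
  -- multiplicities over `N`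
  have hmN : ∀ φ : IrrCharacter N, ∃ k : ℕ, classInner (fun q => (φ : N → ℂ) (iN q)) ν' = k :=
    fun φ => Chars.isCharacter_classInner_nat (Chars.isCharacter_comp iN (Chars.irr_isCharacter φ))
      (Chars.isCharacter_of_isIrrCharacter hν'irr)
  choose m hm using hmN
  choose d hd0 hd hdeg using fun φ : IrrCharacter N => exists_nat_charDegree φ
  have hsum : ∑ φ : IrrCharacter N, m φ * d φ = Q.relIndex N := by
    let e : Q.subgroupOf N ≃* Q := Subgroup.subgroupOfEquivOfLe hQN
    letI : Fintype (Q.subgroupOf N) := Fintype.ofFinite _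
    obtain ⟨c, hc⟩ := Chars.isCharacter_exists_nat_decomp (Chars.isCharacter_indFun
      (Q.subgroupOf N) (Chars.isCharacter_comp e.toMonoidHom
        (Chars.isCharacter_of_isIrrCharacter hν'irr)))
    have hcm : ∀ φ : IrrCharacter N, c φ = m φ := fun φ => by
      have h1 := congrArg (fun f => classInner f (φ : N → ℂ)) hc
      rw [Chars.classInner_sum_smul_irr, Chars.classInner_indFun_left _ _ _
        (Chars.irr_isClassFunction φ)] at h1
      have h2 : classInner (fun h : Q.subgroupOf N => ν' (e h))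
          (fun h : Q.subgroupOf N => (φ : N → ℂ) h) = classInner ν' (fun q => (φ : N → ℂ) (iN q)) :=
        Clifford.classInner_comp_equiv e ν' (fun q => (φ : N → ℂ) (iN q))
      have h3 := h1.symm.trans h2
      rw [← Chars.conj_classInner, hm, Complex.conj_natCast] at h3
      exact_mod_cast h3
    have h1 := congrFun hc 1
    rw [Chars.indFun_one_eq] at h1
    simp only [Finset.sum_apply, Pi.smul_apply, smul_eq_mul, hd, hcm, map_one] at h1
    rw [show ν' 1 = 1 by simp [ν'], mul_one] at h1
    exact_mod_cast h1.symm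
  -- the real ones
  have hmconj : ∀ φ, m (Chars.irrConj φ) = m φ ∧ d (Chars.irrConj φ) = d φ := by
    intro φ
    constructor
    · have h1 := hm (Chars.irrConj φ)
      have h2 := congrArg conj (hm φ)
      rw [Complex.conj_natCast] at h2
      have h3 : conj (classInner (fun q => (φ : N → ℂ) (iN q)) ν') =
          classInner (fun q => (Chars.irrConj φ : N → ℂ) (iN q)) ν' := by
        simp [classInner, map_sum, hν'conj, Chars.irrConj_apply]
      rw [h3, h1, Nat.cast_inj] at h2
      exact h2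
    · have h1 := hd (Chars.irrConj φ)
      rw [Chars.irrConj_apply, hd, Complex.conj_natCast, Nat.cast_inj] at h1
      exact h1.symm
  let R : Type u := {φ : IrrCharacter N // Chars.irrConj φ = φ}
  have hodd : Odd (∑ᶠ φ : R, m φ.1 * d φ.1) := by
    rw [finsum_eq_sum_of_fintype, ← Finset.sum_subtype
      (Finset.univ.filter fun φ => Chars.irrConj φ = φ) (by simp) fun φ => m φ * d φ]
    rw [← ZMod.natCast_eq_one_iff_odd, Nat.cast_sum]
    rw [← ZMod.natCast_eq_one_iff_odd, ← hsum, Nat.cast_sum,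
      ← Finset.sum_filter_add_sum_filter_not Finset.univ (fun φ => Chars.irrConj φ = φ)] at hidx
    refine Eq.trans ?_ hidx
    rw [Finset.sum_involution (s := Finset.univ.filter fun φ => ¬ Chars.irrConj φ = φ)
      (fun φ _ => Chars.irrConj φ) (fun φ _ => ?_) (fun φ hφ _ => (Finset.mem_filter.mp hφ).2)
      (fun φ hφ => ?_) (fun φ _ => ?_), add_zero]
    · rw [(hmconj φ).1, (hmconj φ).2, CharTwo.add_self_eq_zero]
    · refine Finset.mem_filter.mpr ⟨Finset.mem_univ _, fun h => (Finset.mem_filter.mp hφ).2 ?_⟩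
      exact Chars.irrConj.injective h
    · exact Subtype.ext (funext fun x => by simp [Chars.irrConj_apply])
  have hconjN : ∀ (x : P) (n : N), (x : G)⁻¹ * n * x ∈ N := fun x n => by
    simpa using ‹N.Normal›.conj_mem (n : G) n.2 (x : G)⁻¹
  let cnj : P → (N ≃* N) := fun x => MulAut.conjNormal ((x : G)⁻¹)
  have hcnj : ∀ (x : P) (n : N), ((cnj x n : N) : G) = (x : G)⁻¹ * n * x := fun x n => by
    simp [cnj, MulAut.conjNormal_apply]
  let actP : MulAction P R :=
    { smul := fun x φ => ⟨Chars.irrCongr (cnj x) φ.1, Subtype.ext (funext fun n =>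
        congrFun (congrArg Subtype.val φ.2) (cnj x n))⟩
      one_smul := fun φ => Subtype.ext (Subtype.ext (funext fun n => by
        show (φ.1 : N → ℂ) (cnj 1 n) = _
        exact congrArg _ (Subtype.ext (by simp [hcnj]))))
      mul_smul := fun x y φ => Subtype.ext (Subtype.ext (funext fun n => by
        show (φ.1 : N → ℂ) (cnj (x * y) n) = (φ.1 : N → ℂ) (cnj y (cnj x n))
        exact congrArg _ (Subtype.ext (by simp [hcnj, mul_assoc])))) }
  obtain ⟨θ, hθfix, hθodd⟩ := exists_fixed_odd hP (fun φ : R => m φ.1 * d φ.1) (fun x φ => by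
    have hd' : d (x • φ).1 = d φ.1 := by
      have h1 := hd (x • φ).1
      have h2 : ((x • φ).1 : N → ℂ) 1 = (φ.1 : N → ℂ) 1 := by
        show (φ.1 : N → ℂ) (cnj x 1) = _
        rw [map_one]
      rw [h2, hd, Nat.cast_inj] at h1
      exact h1.symm
    have hm' : m (x • φ).1 = m φ.1 := by
      have h1 := hm (x • φ).1
      have h2 : classInner (fun q => ((x • φ).1 : N → ℂ) (iN q)) ν' =
          classInner (fun q => (φ.1 : N → ℂ) (iN q)) ν' := by
        simp only [classInner]
        refine congrArg _ (Finset.sum_bij' (fun q _ => (⟨(x : G)⁻¹ * q * x,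
            ⟨P.mul_mem (P.mul_mem (P.inv_mem x.2) (hQP q.2)) x.2, hconjN x ⟨q, hQN q.2⟩⟩⟩ : Q))
          (fun q _ => (⟨(x : G) * q * (x : G)⁻¹,
            ⟨P.mul_mem (P.mul_mem x.2 (hQP q.2)) (P.inv_mem x.2),
              ‹N.Normal›.conj_mem _ (hQN q.2) _⟩⟩ : Q)) (fun _ _ => Finset.mem_univ _)
          (fun _ _ => Finset.mem_univ _) (fun q _ => Subtype.ext (by simp [mul_assoc]))
          (fun q _ => Subtype.ext (by simp [mul_assoc])) fun q _ => ?_)
        have hν : ν' q = ν' (⟨(x : G)⁻¹ * q * x,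
            ⟨P.mul_mem (P.mul_mem (P.inv_mem x.2) (hQP q.2)) x.2, hconjN x ⟨q, hQN q.2⟩⟩⟩ : Q) :=
          congrArg Units.val (hνinv x x.2 _ q (by group))
        rw [hν]
        refine congrArg (fun t => t * _) ?_
        show (φ.1 : N → ℂ) (cnj x (iN q)) = _
        exact congrArg _ (Subtype.ext (by rw [hcnj]; rfl))
      rw [h2, hm, Nat.cast_inj] at h1
      exact h1.symm
    rw [hd', hm']) hodd
  -- extension to `G`
  obtain ⟨⟨θ, hθir⟩, hθreal⟩ := θ
  set θ' : IrrCharacter N := ⟨θ, hθir⟩
  have hθr : ∀ n, conj (θ n) = θ n := fun n => congrFun (congrArg Subtype.val hθreal) n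
  have hdodd : Odd (d θ') := (Nat.odd_mul.mp hθodd).2
  have hmodd : Odd (m θ') := (Nat.odd_mul.mp hθodd).1
  have hinv : ∀ (g : G) (n : N), θ ⟨g * n * g⁻¹, ‹N.Normal›.conj_mem (n : G) n.2 g⟩ = θ n := by
    intro g n
    obtain ⟨a, ha, b, hb, rfl⟩ := Subgroup.mem_sup_of_normal_left.mp (hgen ▸ Subgroup.mem_top g)
    have h1 := congrFun (congrArg Subtype.val (congrArg Subtype.val (hθfix ⟨b⁻¹, P.inv_mem hb⟩))) n
    have h2 : θ (cnj ⟨b⁻¹, P.inv_mem hb⟩ n) = θ n := h1
    have h3 := Chars.irr_isClassFunction θ' (cnj ⟨b⁻¹, P.inv_mem hb⟩ n) ⟨a, ha⟩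
    refine Eq.trans ?_ (h3.trans h2)
    refine congrArg θ (Subtype.ext ?_)
    simp [hcnj, mul_assoc]
  have hcop : Nat.Coprime N.index (d θ') := by
    have hq : IsPGroup 2 (G ⧸ N) := by
      refine hP.of_surjective ((QuotientGroup.mk' N).comp P.subtype) fun y => ?_
      obtain ⟨g, rfl⟩ := QuotientGroup.mk'_surjective N y
      obtain ⟨a, ha, b, hb, rfl⟩ := Subgroup.mem_sup_of_normal_left.mp (hgen ▸ Subgroup.mem_top g)
      exact ⟨⟨b, hb⟩, by simp [(QuotientGroup.eq_one_iff a).mpr ha]⟩
    obtain ⟨k, hk⟩ := IsPGroup.iff_card.mp hq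
    rw [Subgroup.index_eq_card, hk]
    exact Nat.Coprime.pow_left k (Nat.coprime_two_left.mpr hdodd)
  obtain ⟨χ, hχ, hχN, hχdet⟩ := Clifford.exists_char_extension hθir hinv (hd θ') hcop 1
    fun n => by rw [detChar_eq_one_of_real hab hθir hθr n]; simp
  have hχreal : ∀ g, conj (χ g) = χ g := by
    have hst := Chars.isIrrCharacter_star hχ
    have h := Clifford.char_extension_unique hθir (hd θ') hcop hχ hst hχN
      (fun n => by rw [hχN]; exact hθr n) (funext fun g => by
        have := detChar_star_mul hχ g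
        rw [hχdet] at this ⊢
        simpa using this)
    exact congrFun h
  -- restriction to `P`
  let χP : P → ℂ := fun x => χ x
  obtain ⟨c, hc⟩ := Chars.isCharacter_exists_nat_decomp
    (Chars.isCharacter_restrict P (Chars.isCharacter_of_isIrrCharacter hχ))
  have hmP : ∀ ψ : IrrCharacter P, ∃ k : ℕ, classInner (fun q => (ψ : P → ℂ) (iP q)) ν' = k :=
    fun ψ => Chars.isCharacter_classInner_nat (Chars.isCharacter_comp iP (Chars.irr_isCharacter ψ))
      (Chars.isCharacter_of_isIrrCharacter hν'irr)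
  choose n hn using hmP
  have hcn : ∑ ψ : IrrCharacter P, c ψ * n ψ = m θ' := by
    have h1 : classInner (fun q => (θ' : N → ℂ) (iN q)) ν' =
        classInner (fun q => (∑ ψ, (c ψ : ℂ) • (ψ : P → ℂ)) (iP q)) ν' := by
      rw [← hc]
      simp only [classInner]
      refine congrArg _ (Finset.sum_congr rfl fun q _ => ?_)
      show θ (iN q) * _ = _
      rw [← hχN]
      rfl
    rw [hm] at h1
    have h2 : classInner (fun q => (∑ ψ, (c ψ : ℂ) • (ψ : P → ℂ)) (iP q)) ν' =
        ∑ ψ : IrrCharacter P, (c ψ : ℂ) * classInner (fun q => (ψ : P → ℂ) (iP q)) ν' := by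
      simp only [classInner, Finset.sum_apply, Pi.smul_apply, smul_eq_mul, Finset.sum_mul,
        Finset.mul_sum]
      rw [Finset.sum_comm]
      exact Finset.sum_congr rfl fun ψ _ => Finset.sum_congr rfl fun q _ => by ring
    simp only [hn] at h2
    exact_mod_cast (h1.trans h2).symm
  have hne : ∃ ψ : IrrCharacter P, Chars.irrConj ψ = ψ ∧ (ψ : P → ℂ) 1 = 1 ∧ n ψ ≠ 0 := by
    by_contra hno
    push Not at hno
    have hcconj : ∀ ψ, c (Chars.irrConj ψ) = c ψ := fun ψ => by
      have hkey : ∀ η : IrrCharacter P, classInner χP (η : P → ℂ) = (c η : ℂ) := fun η => by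
        show classInner (fun x : P => χ x) _ = _
        rw [hc, Chars.classInner_sum_smul_irr]
      have h1 := hkey (Chars.irrConj ψ)
      have h2 := congrArg conj (hkey ψ)
      rw [Complex.conj_natCast] at h2
      have h3 : conj (classInner χP (ψ : P → ℂ)) = classInner χP (Chars.irrConj ψ : P → ℂ) := by
        simp [classInner, map_sum, χP, hχreal, Chars.irrConj_apply]
      rw [h3, h1, Nat.cast_inj] at h2
      exact h2
    have hnconj : ∀ ψ, n (Chars.irrConj ψ) = n ψ := fun ψ => by
      have h1 := hn (Chars.irrConj ψ)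
      have h2 := congrArg conj (hn ψ)
      rw [Complex.conj_natCast] at h2
      have h3 : conj (classInner (fun q => (ψ : P → ℂ) (iP q)) ν') =
          classInner (fun q => (Chars.irrConj ψ : P → ℂ) (iP q)) ν' := by
        simp [classInner, map_sum, hν'conj, Chars.irrConj_apply]
      rw [h3, h1, Nat.cast_inj] at h2
      exact h2
    have hev : ∀ ψ : IrrCharacter P, Chars.irrConj ψ = ψ → 2 ∣ n ψ := by
      intro ψ hψ
      by_cases hn0 : n ψ = 0
      · simp [hn0]
      obtain ⟨D, hD0, hD, hD'⟩ := exists_nat_charDegree ψ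
      have hD1 : D ≠ 1 := fun h => hn0 (hno ψ hψ (by rw [hD, h, Nat.cast_one]))
      have hD2 : 2 ∣ D := by
        obtain ⟨a, ha⟩ := IsPGroup.iff_card.mp hP
        have hdv := BrauerMap.charDegree_irr_dvd_card ψ
        rw [hD', ha] at hdv
        obtain ⟨b, -, rfl⟩ := (Nat.dvd_prime_pow Nat.prime_two).mp hdv
        exact dvd_pow_self 2 (by rintro rfl; simp at hD1)
      let e : (N.subgroupOf P) →* Q :=
        { toFun := fun x => ⟨((x : P) : G), (x : P).2, x.2⟩
          map_one' := rfl
          map_mul' := fun _ _ => rfl }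
      let e' : (N.subgroupOf P) ≃* Q := MulEquiv.ofBijective e
        ⟨fun a b h => Subtype.ext (Subtype.ext (congrArg (fun z : Q => (z : G)) h)),
          fun q => ⟨⟨⟨q, hQP q.2⟩, hQN q.2⟩, rfl⟩⟩
      letI : Fintype (N.subgroupOf P) := Fintype.ofFinite _
      have hip : classInner (Clifford.resFun (N.subgroupOf P) (ψ : P → ℂ)) (fun x => ν' (e' x)) =
          (n ψ : ℂ) := by
        rw [← hn, ← Clifford.classInner_comp_equiv e']
        rfl
      have hres := Clifford.resFun_eq_smul_of_invariant (N := N.subgroupOf P) ψ.2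
        (Clifford.isIrrCharacter_comp_equiv e' hν'irr) (by rw [hip]; exact_mod_cast hn0) fun x => by
          funext y
          refine congrArg Units.val (hνinv x x.2 _ _ ?_)
          show (x : G) * ((y : P) : G) * (x : G)⁻¹ = (x : G) * ((y : P) : G) * (x : G)⁻¹
          rfl
      have h1 := congrFun hres 1
      rw [hip, Pi.smul_apply, smul_eq_mul] at h1
      simp only [map_one, show ν' 1 = 1 by simp [ν'], mul_one, Clifford.resFun_apply,
        OneMemClass.coe_one, hD, Nat.cast_inj] at h1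
      rwa [← h1]
    refine hmodd.not_two_dvd_nat ?_
    rw [← hcn, ← ZMod.natCast_eq_zero_iff, Nat.cast_sum]
    refine Finset.sum_involution (fun ψ _ => Chars.irrConj ψ) (fun ψ _ => ?_)
      (fun ψ _ hne hfix => hne ?_) (fun _ _ => Finset.mem_univ _) (fun ψ _ => ?_)
    · rw [hcconj, hnconj, CharTwo.add_self_eq_zero]
    · rw [ZMod.natCast_eq_zero_iff]
      exact Dvd.dvd.mul_left (hev ψ hfix) _
    · exact Subtype.ext (funext fun x => by simp [Chars.irrConj_apply])
  obtain ⟨ψ, hψr, hψ1, hψn⟩ := hne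
  obtain ⟨μ, hμ⟩ := Chars.exists_hom_of_degree_one (Chars.irr_isCharacter ψ) hψ1
  refine ⟨μ, fun x => ?_, fun q => ?_⟩
  · have h1 := congrFun (congrArg Subtype.val hψr) x
    rw [Chars.irrConj_apply, hμ, ← Complex.inv_eq_conj (Chars.norm_hom_apply μ x),
      ← Units.val_inv_eq_inv_val, Units.val_inj, inv_eq_iff_mul_eq_one] at h1
    exact h1
  · have h2 := hn ψ
    rw [hμ] at h2
    have hne' : (⟨_, Chars.isIrrCharacter_of_hom (μ.comp iP)⟩ : IrrCharacter Q) = ⟨ν', hν'irr⟩ := by
      by_contra h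
      rw [show classInner (fun q => ((μ (iP q) : ℂˣ) : ℂ)) ν' = 0 from
        (Chars.classInner_irr ⟨_, Chars.isIrrCharacter_of_hom (μ.comp iP)⟩ ⟨ν', hν'irr⟩).trans
          (if_neg h)] at h2
      exact hψn (by exact_mod_cast h2.symm)
    exact Units.ext (congrFun (congrArg Subtype.val hne') q)

end Cfsg.Agent.Lib.RealExtension
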